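import Cfsg.Agent.Helper19.Stein.Defs
import Cfsg.Agent.Helper23.SteinX1a
import Cfsg.Agent.Helper31.SteinX1b
import Cfsg.Agent.Helper76.SteinX1c
import Cfsg.Agent.Helper11.SteinX1d

/-!
# Minimal coset representatives in a group with the exchange condition

The results are proved by helper23 (`SteinX1a`), helper31 (`SteinX1b`), helper76 (`SteinX1c`) and
helper11 (`SteinX1d`); this file restates them in one namespace.
-/

set_option autoImplicit false

namespace Cfsg.Agent.Helper19.Stein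

open Cfsg.Agent.Helper6

variable {W ι : Type*} [Group W] {f : ι → W}

theorem wl_inv (h : ExchData f) (w : W) : wl f w⁻¹ = wl f w :=
  Cfsg.Agent.Helper23.SteinX1a.wl_inv h w

theorem wl_mul_ne (h : ExchData f) (i : ι) (w : W) : wl f (w * f i) ≠ wl f w :=
  Cfsg.Agent.Helper23.SteinX1a.wl_mul_ne h i w

theorem exists_red_word_of_mem_WJ (h : ExchData f) {J : Set ι} {v : W} (hv : v ∈ WJ f J) :
    ∃ l : List ι, (∀ i ∈ l, i ∈ J) ∧ wp f l = v ∧ Red f l :=
  Cfsg.Agent.Helper23.SteinX1a.exists_red_word_of_mem_WJ h hv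

theorem wl_mul_of_minR (h : ExchData f) {J : Set ι} {w v : W} (hw : MinR f J w) (hv : v ∈ WJ f J) :
    wl f (w * v) = wl f w + wl f v :=
  Cfsg.Agent.Helper23.SteinX1a.wl_mul_of_minR h hw hv

theorem exists_minR (h : ExchData f) (J : Set ι) (w : W) :
    ∃ u v, MinR f J u ∧ v ∈ WJ f J ∧ w = u * v :=
  Cfsg.Agent.Helper23.SteinX1a.exists_minR h J w

theorem minR_unique (h : ExchData f) {J : Set ι} {u u' : W} (hu : MinR f J u) (hu' : MinR f J u')
    (hc : u⁻¹ * u' ∈ WJ f J) : u = u' :=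
  Cfsg.Agent.Helper23.SteinX1a.minR_unique h hu hu' hc

theorem eq_one_of_minR_univ (h : ExchData f) {w : W} (hw : MinR f Set.univ w) : w = 1 :=
  Cfsg.Agent.Helper23.SteinX1a.eq_one_of_minR_univ h hw

theorem minL_iff_minR_inv (h : ExchData f) (J : Set ι) (w : W) : MinL f J w ↔ MinR f J w⁻¹ :=
  Cfsg.Agent.Helper31.SteinX1b.minL_iff_minR_inv h J w

theorem wl_mul_of_minL (h : ExchData f) {J : Set ι} {w v : W} (hw : MinL f J w) (hv : v ∈ WJ f J) :
    wl f (v * w) = wl f v + wl f w :=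
  Cfsg.Agent.Helper31.SteinX1b.wl_mul_of_minL h hw hv

theorem minL_unique (h : ExchData f) {J : Set ι} {u u' : W} (hu : MinL f J u) (hu' : MinL f J u')
    (hc : u' * u⁻¹ ∈ WJ f J) : u = u' :=
  Cfsg.Agent.Helper31.SteinX1b.minL_unique h hu hu' hc

/-- Deodhar's lemma -/
theorem deodhar (h : ExchData f) {K : Set ι} {y : W} (hy : MinR f K y) (i : ι) :
    MinR f K (f i * y) ∨ ∃ k ∈ K, f i * y = y * f k :=
  Cfsg.Agent.Helper31.SteinX1b.deodhar h hy i

theorem exists_minLR (h : ExchData f) (J K : Set ι) (w : W) :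
    ∃ d a b, MinL f J d ∧ MinR f K d ∧ a ∈ WJ f J ∧ b ∈ WJ f K ∧ w = a * d * b :=
  Cfsg.Agent.Helper31.SteinX1b.exists_minLR h J K w

theorem minLR_unique (h : ExchData f) {J K : Set ι} {d d' a b : W} (hd : MinL f J d) (hd' : MinR f K d)
    (he : MinL f J d') (he' : MinR f K d') (ha : a ∈ WJ f J) (hb : b ∈ WJ f K)
    (hdd : d' = a * d * b) : d' = d :=
  Cfsg.Agent.Helper31.SteinX1b.minLR_unique h hd hd' he he' ha hb hdd

open Classical in
theorem sum_powerset_minR (h : ExchData f) [Fintype ι] (w : W) :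
    ∑ J ∈ (Finset.univ : Finset ι).powerset,
      (-1 : ℂ) ^ J.card * (if MinR f (↑J : Set ι) w then 1 else 0) = if MaxR f w then 1 else 0 :=
  Cfsg.Agent.Helper76.SteinX1c.sum_powerset_minR h w

open Classical in
theorem sum_powerset_minLR (h : ExchData f) [Fintype ι] (w : W) :
    ∑ J ∈ (Finset.univ : Finset ι).powerset, ∑ K ∈ (Finset.univ : Finset ι).powerset,
      (-1 : ℂ) ^ J.card * (-1 : ℂ) ^ K.card *
        (if MinL f (↑J : Set ι) w ∧ MinR f (↑K : Set ι) w then 1 else 0) =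
      if MaxL f w ∧ MaxR f w then 1 else 0 :=
  Cfsg.Agent.Helper76.SteinX1c.sum_powerset_minLR h w

theorem wl_mul_of_maxR (h : ExchData f) {w : W} (hw : MaxR f w) (v : W) :
    wl f (w * v) + wl f v = wl f w :=
  Cfsg.Agent.Helper11.SteinX1d.wl_mul_of_maxR h hw v

theorem maxR_unique (h : ExchData f) {w w' : W} (hw : MaxR f w) (hw' : MaxR f w') : w = w' :=
  Cfsg.Agent.Helper11.SteinX1d.maxR_unique h hw hw'

theorem maxL_of_maxR (h : ExchData f) {w : W} (hw : MaxR f w) : MaxL f w :=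
  Cfsg.Agent.Helper11.SteinX1d.maxL_of_maxR h hw

theorem exists_maxR [Finite W] (h : ExchData f) : ∃ w, MaxR f w :=
  Cfsg.Agent.Helper11.SteinX1d.exists_maxR h

theorem card_maxR [Finite W] (h : ExchData f) : Nat.card {d : W // MaxR f d} = 1 :=
  Cfsg.Agent.Helper11.SteinX1d.card_maxR h

theorem card_maxLR [Finite W] (h : ExchData f) : Nat.card {d : W // MaxL f d ∧ MaxR f d} = 1 :=
  Cfsg.Agent.Helper11.SteinX1d.card_maxLR h

end Cfsg.Agent.Helper19.Stein
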