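import Cfsg.Agent.Helper19.Stein.BNTau
import Cfsg.Agent.Helper19.Stein.CoxMin

/-!
# Minimal coset representatives in a (B,N)-pair

Every coset `g P_J` contains exactly one coset `g' B` whose type has no right descent in `J`.
-/

set_option autoImplicit false

namespace Cfsg.Agent.Helper19.Stein

open Cfsg.Agent.Helper6 DoubleCoset

section abstract

variable {W ι : Type*} [Group W] {f : ι → W}

theorem eq_one_of_wl_eq_zero (h : ExchData f) {w : W} (hw : wl f w = 0) : w = 1 := by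
  obtain ⟨l, hl, hlen⟩ := exists_red h.gen w
  rw [hw, List.length_eq_zero_iff] at hlen
  rw [← hl, hlen, wp_nil]

theorem wl_mul_le_add (h : ExchData f) (a b : W) : wl f (a * b) ≤ wl f a + wl f b := by
  obtain ⟨l, hl, hlen⟩ := exists_red h.gen a
  obtain ⟨l', hl', hlen'⟩ := exists_red h.gen b
  have := wl_le (f := f) (l := l ++ l') (w := a * b) (by rw [wp_append, hl, hl'])
  simpa [hlen, hlen'] using this

end abstract

variable {G : Type*} [Group G] (P : Cfsg.BNPair G)

/-- `B u B · B v B ⊆ B u v B` when the lengths add up -/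
theorem tau_mul_of_add : ∀ (k : ℕ) (g₁ g₂ : G), wl (wf P) (tau P g₂) = k →
    wl (wf P) (tau P g₁ * tau P g₂) = wl (wf P) (tau P g₁) + wl (wf P) (tau P g₂) →
    tau P (g₁ * g₂) = tau P g₁ * tau P g₂ := by
  have hE := exchData_wf P
  intro k
  induction k with
  | zero =>
    intro g₁ g₂ hk _
    have h1 : tau P g₂ = 1 := eq_one_of_wl_eq_zero hE hk
    rw [h1, mul_one]
    exact tau_mul_B P ((tau_eq_one_iff P g₂).1 h1) g₁
  | succ k ih =>
    intro g₁ g₂ hk hadd
    obtain ⟨l, hl, hlen⟩ := exists_red hE.gen (tau P g₂)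
    rw [hk] at hlen
    rcases List.eq_nil_or_concat l with rfl | ⟨l', s, hls⟩
    · simp at hlen
    rw [List.concat_eq_append] at hls
    subst hls
    have hred : Red (wf P) (l' ++ [s]) := by
      unfold Red; rw [hl, hk, hlen]
    have hred' : Red (wf P) l' := hred.init hE
    have hlen' : l'.length = k := by
      rw [List.length_append, List.length_singleton] at hlen; omega
    rw [wp_append, wp_singleton] at hl
    set v' := wp (wf P) l' with hv'
    have hwv' : wl (wf P) v' = k := by rw [← hlen']; exact hred'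
    obtain ⟨n', hn', hnv'⟩ := mkW_surjective P v'
    have hg₂ : g₂ ∈ dc P (n' * s.1) := by
      apply mem_dc_of_tau P (P.N.mul_mem hn' (P.subset s.2))
      rw [← hl, ← hnv']
      rfl
    rw [mem_dc] at hg₂
    obtain ⟨b, hb, b', hb', hg₂⟩ := hg₂
    have ht1 : tau P (b * n') = v' := by rw [tau_B_mul P hb, tau_of_mem_N P hn', hnv']
    -- additivity for the shorter product
    have hadd' : wl (wf P) (tau P g₁ * tau P (b * n')) =
        wl (wf P) (tau P g₁) + wl (wf P) (tau P (b * n')) := by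
      rw [ht1, hwv']
      have h1 := wl_mul_le_add hE (tau P g₁) v'
      have h2 := wl_mul_le' hE.gen s (tau P g₁ * v')
      have hadd2 : wl (wf P) (tau P g₁ * v' * wf P s) = wl (wf P) (tau P g₁) + (k + 1) := by
        rw [mul_assoc, hl, hadd, hk]
      rw [hwv'] at h1
      omega
    have h3 := ih g₁ (b * n') (by rw [ht1, hwv']) hadd'
    rw [ht1] at h3 hadd'
    have h4 : wl (wf P) (tau P (g₁ * (b * n'))) < wl (wf P) (tau P (g₁ * (b * n')) * wf P s) := by
      rw [h3, hadd', mul_assoc, hl, hadd, hk, hwv']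
      omega
    have h5 := tau_mul_S_of_lt P s _ h4
    have e : g₁ * g₂ = g₁ * (b * n') * s.1 * b' := by rw [hg₂]; group
    rw [e, tau_mul_B P hb', h5, h3, mul_assoc, hl]

theorem tau_mul_of_add' {g₁ g₂ : G}
    (h : wl (wf P) (tau P g₁ * tau P g₂) = wl (wf P) (tau P g₁) + wl (wf P) (tau P g₂)) :
    tau P (g₁ * g₂) = tau P g₁ * tau P g₂ :=
  tau_mul_of_add P _ g₁ g₂ rfl h

/-- the class in `W` of an element of the subgroup generated by `J` lies in `W_J` -/
theorem mkW_mem_WJ (J : Set P.S) {n : G} (hn : n ∈ Subgroup.closure (Subtype.val '' J)) :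
    ∃ hn' : n ∈ P.N, mkW P n hn' ∈ WJ (wf P) J := by
  induction hn using Subgroup.closure_induction with
  | mem x hx =>
    obtain ⟨s, hs, rfl⟩ := hx
    exact ⟨P.subset s.2, Subgroup.subset_closure ⟨s, hs, rfl⟩⟩
  | one => exact ⟨P.N.one_mem, (WJ (wf P) J).one_mem⟩
  | mul x y _ _ ihx ihy =>
    obtain ⟨hx, hx'⟩ := ihx
    obtain ⟨hy, hy'⟩ := ihy
    exact ⟨P.N.mul_mem hx hy, (WJ (wf P) J).mul_mem hx' hy'⟩
  | inv x _ ih =>
    obtain ⟨hx, hx'⟩ := ih
    exact ⟨P.N.inv_mem hx, (WJ (wf P) J).inv_mem hx'⟩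

/-- an element of `W_J` has a representative in the subgroup generated by `J` -/
theorem exists_rep_of_mem_WJ (J : Set P.S) {w : P.N ⧸ (P.B ⊓ P.N).subgroupOf P.N}
    (hw : w ∈ WJ (wf P) J) :
    ∃ n, ∃ hn : n ∈ P.N, n ∈ Subgroup.closure (Subtype.val '' J) ∧ mkW P n hn = w := by
  induction hw using Subgroup.closure_induction with
  | mem x hx =>
    obtain ⟨s, hs, rfl⟩ := hx
    exact ⟨s.1, P.subset s.2, Subgroup.subset_closure ⟨s, hs, rfl⟩, rfl⟩
  | one => exact ⟨1, P.N.one_mem, Subgroup.one_mem _, rfl⟩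
  | mul x y _ _ ihx ihy =>
    obtain ⟨n, hn, hn', rfl⟩ := ihx
    obtain ⟨m, hm, hm', rfl⟩ := ihy
    exact ⟨n * m, P.N.mul_mem hn hm, Subgroup.mul_mem _ hn' hm', rfl⟩
  | inv x _ ih =>
    obtain ⟨n, hn, hn', rfl⟩ := ih
    exact ⟨n⁻¹, P.N.inv_mem hn, Subgroup.inv_mem _ hn', rfl⟩

/-- `P_J = B W_J B` in terms of types -/
theorem mem_parabolic_iff_tau (J : Set P.S) (g : G) :
    g ∈ P.parabolic (Subtype.val '' J) ↔ tau P g ∈ WJ (wf P) J := by
  have hJ : Subtype.val '' J ⊆ P.S := by rintro _ ⟨s, _, rfl⟩; exact s.2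
  rw [mem_parabolic_iff P hJ]
  constructor
  · rintro ⟨n, hn, hg⟩
    obtain ⟨hn', h⟩ := mkW_mem_WJ P J hn
    rw [tau_eq P hn' hg]
    exact h
  · intro h
    obtain ⟨n, hn, hn', e⟩ := exists_rep_of_mem_WJ P J h
    exact ⟨n, hn', mem_dc_of_tau P hn e.symm⟩

/-- every coset `g P_J` contains an element whose type has no right descent in `J` -/
theorem exists_minR_in_coset (J : Set P.S) (g : G) :
    ∃ g', g⁻¹ * g' ∈ P.parabolic (Subtype.val '' J) ∧ MinR (wf P) J (tau P g') := by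
  have hE := exchData_wf P
  obtain ⟨n, hn, h1, h2⟩ := exists_rep P g
  obtain ⟨u, v, hu, hv, huv⟩ := exists_minR hE J (tau P g)
  obtain ⟨nu, hnu, rfl⟩ := mkW_surjective P u
  rw [mem_dc] at h2
  obtain ⟨b, hb, b', hb', rfl⟩ := h2
  refine ⟨b * nu, ?_, ?_⟩
  · rw [mem_parabolic_iff_tau]
    have e : (b * n * b')⁻¹ * (b * nu) = b'⁻¹ * (n⁻¹ * nu) := by group
    rw [e, tau_B_mul P (P.B.inv_mem hb'), tau_of_mem_N P (P.N.mul_mem (P.N.inv_mem hn) hnu)]
    have e2 : mkW P (n⁻¹ * nu) (P.N.mul_mem (P.N.inv_mem hn) hnu) = (mkW P n hn)⁻¹ * mkW P nu hnu := rfl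
    rw [e2, ← h1, huv, mul_inv_rev, inv_mul_cancel_right]
    exact (WJ (wf P) J).inv_mem hv
  · rw [tau_B_mul P hb, tau_of_mem_N P hnu]
    exact hu

/-- two elements of the same coset of `P_J` whose types have no right descent in `J` lie in the
same coset of `B` -/
theorem minR_coset_unique (J : Set P.S) {g₁ g₂ : G} (h1 : MinR (wf P) J (tau P g₁))
    (h2 : MinR (wf P) J (tau P g₂)) (h : g₁⁻¹ * g₂ ∈ P.parabolic (Subtype.val '' J)) :
    g₁⁻¹ * g₂ ∈ P.B := by
  have hE := exchData_wf P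
  rw [mem_parabolic_iff_tau] at h
  have hadd := wl_mul_of_minR hE h1 h
  have h3 := tau_mul_of_add' P hadd
  rw [mul_inv_cancel_left] at h3
  have h4 : tau P g₁ = tau P g₂ := by
    apply minR_unique hE h1 h2
    rw [h3, inv_mul_cancel_left]
    exact h
  rw [← tau_eq_one_iff]
  rw [← h4] at h3
  exact mul_left_cancel (a := tau P g₁) (by rw [← h3, mul_one])

end Cfsg.Agent.Helper19.Stein
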