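import Cfsg.Agent.Helper19.Stein.BNTau

/-!
# The type of a coset of `B` in a (B,N)-pair
-/

set_option autoImplicit false

namespace Cfsg.Agent.Helper19.Stein

open Cfsg.Agent.Helper6

variable {G : Type*} [Group G] (P : Cfsg.BNPair G)

/-- the type of a coset of `B` -/
noncomputable def tauB (x : G ⧸ P.B) : P.N ⧸ (P.B ⊓ P.N).subgroupOf P.N :=
  Quotient.liftOn' x (tau P) (fun a b h => by
    have e : b = a * (a⁻¹ * b) := by group
    rw [e, tau_mul_B P (QuotientGroup.leftRel_apply.mp h)])

theorem tauB_mk (g : G) : tauB P (QuotientGroup.mk g) = tau P g := rfl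

theorem tauB_smul {b : G} (hb : b ∈ P.B) (x : G ⧸ P.B) : tauB P (b • x) = tauB P x := by
  induction x using QuotientGroup.induction_on with
  | _ g =>
    rw [MulAction.Quotient.smul_mk, tauB_mk, tauB_mk, smul_eq_mul, tau_B_mul P hb]

end Cfsg.Agent.Helper19.Stein
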