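import Cfsg.Agent.Helper6.Cox1

/-!
# Minimal coset representatives in a group with the exchange condition: definitions

Vocabulary on top of `Cfsg.Agent.Helper6.ExchData` (generators `f : ι → W`, word length `wl f`).
-/

set_option autoImplicit false

namespace Cfsg.Agent.Helper19.Stein

open Cfsg.Agent.Helper6

variable {W ι : Type*} [Group W]

/-- the standard parabolic subgroup `W_J` -/
def WJ (f : ι → W) (J : Set ι) : Subgroup W := Subgroup.closure (f '' J)

/-- no right descent in `J` -/
def MinR (f : ι → W) (J : Set ι) (w : W) : Prop := ∀ j ∈ J, wl f w < wl f (w * f j)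

/-- no left descent in `J` -/
def MinL (f : ι → W) (J : Set ι) (w : W) : Prop := ∀ j ∈ J, wl f w < wl f (f j * w)

/-- every generator is a right descent -/
def MaxR (f : ι → W) (w : W) : Prop := ∀ i, wl f (w * f i) < wl f w

/-- every generator is a left descent -/
def MaxL (f : ι → W) (w : W) : Prop := ∀ i, wl f (f i * w) < wl f w

end Cfsg.Agent.Helper19.Stein
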