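import Cfsg.Agent.Helper6.Cox5
import Cfsg.Agent.Helper19.Stein.Defs

/-!
# The type map `G → W` of a (B,N)-pair

`tau P g` is the element `w` of `W = N / (B ⊓ N)` with `g ∈ B w B`.
-/

set_option autoImplicit false

namespace Cfsg.Agent.Helper19.Stein

open Cfsg.Agent.Helper6 DoubleCoset

section abstract

variable {W ι : Type*} [Group W] {f : ι → W}

theorem inv_gen (h : ExchData f) (i : ι) : (f i)⁻¹ = f i :=
  inv_eq_of_mul_eq_one_right (h.inv i)

theorem wp_reverse (h : ExchData f) (l : List ι) : wp f l.reverse = (wp f l)⁻¹ := by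
  induction l with
  | nil => simp
  | cons i l ih =>
    rw [List.reverse_cons, wp_append, ih, wp_singleton, wp_cons, mul_inv_rev, inv_gen h]

theorem wl_inv_le (h : ExchData f) (w : W) : wl f w⁻¹ ≤ wl f w := by
  obtain ⟨l, hl, hlen⟩ := exists_red h.gen w
  have := wl_le (f := f) (l := l.reverse) (w := w⁻¹) (by rw [wp_reverse h, hl])
  simpa [hlen] using this

/-- the length of the inverse -/
theorem wl_inv' (h : ExchData f) (w : W) : wl f w⁻¹ = wl f w := by
  apply le_antisymm (wl_inv_le h w)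
  have := wl_inv_le h w⁻¹
  rwa [inv_inv] at this

/-- right multiplication by a generator changes the length -/
theorem wl_mul_ne' (h : ExchData f) (i : ι) (w : W) : wl f (w * f i) ≠ wl f w := by
  have := h.ne i w⁻¹
  rw [← wl_inv' h (f i * w⁻¹), mul_inv_rev, inv_inv, inv_gen h, wl_inv' h] at this
  exact this

end abstract

variable {G : Type*} [Group G] (P : Cfsg.BNPair G)

/-- `B ⊓ N` is normal in `N` -/
theorem normal_T : ((P.B ⊓ P.N).subgroupOf P.N).Normal := by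
  constructor
  intro t ht n
  rw [Subgroup.mem_subgroupOf] at ht ⊢
  refine ⟨?_, (n * t * n⁻¹).2⟩
  simpa using P.conj_mem n n.2 t ht

/-- the Weyl group -/
abbrev Wq : Type _ :=
  letI := normal_T P
  P.N ⧸ (P.B ⊓ P.N).subgroupOf P.N

instance : ((P.B ⊓ P.N).subgroupOf P.N).Normal := normal_T P

/-- the class in `W` of an element of `N` -/
def mkW (n : G) (hn : n ∈ P.N) : P.N ⧸ (P.B ⊓ P.N).subgroupOf P.N :=
  QuotientGroup.mk (⟨n, hn⟩ : P.N)

theorem mkW_eq_iff {n n' : G} (hn : n ∈ P.N) (hn' : n' ∈ P.N) :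
    mkW P n hn = mkW P n' hn' ↔ n⁻¹ * n' ∈ P.B := by
  unfold mkW
  rw [mk_eq_iff]
  unfold Helper6.Rel
  constructor
  · intro h; exact h.1
  · intro h; exact ⟨h, P.N.mul_mem (P.N.inv_mem hn) hn'⟩

theorem mkW_mul {n n' : G} (hn : n ∈ P.N) (hn' : n' ∈ P.N) :
    mkW P (n * n') (P.N.mul_mem hn hn') = mkW P n hn * mkW P n' hn' := rfl

theorem mkW_surjective (w : P.N ⧸ (P.B ⊓ P.N).subgroupOf P.N) : ∃ n, ∃ hn : n ∈ P.N, mkW P n hn = w := by
  obtain ⟨n, rfl⟩ := QuotientGroup.mk_surjective w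
  exact ⟨n.1, n.2, rfl⟩

theorem mkW_S (s : P.S) : mkW P s.1 (P.subset s.2) = wf P s := rfl

theorem mkW_eq_one_iff {n : G} (hn : n ∈ P.N) : mkW P n hn = 1 ↔ n ∈ P.B := by
  have h1 : (1 : P.N ⧸ (P.B ⊓ P.N).subgroupOf P.N) = mkW P 1 P.N.one_mem := rfl
  rw [h1, mkW_eq_iff]
  constructor
  · intro h
    have := P.B.inv_mem h
    simpa using this
  · intro h
    have := P.B.inv_mem h
    simpa using this

theorem wl_mkW {n : G} (hn : n ∈ P.N) : wl (wf P) (mkW P n hn) = len P P.S n :=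
  wl_wf P ⟨n, hn⟩

/-- the type of an element: the `w` with `g ∈ B w B` -/
noncomputable def tau (g : G) : P.N ⧸ (P.B ⊓ P.N).subgroupOf P.N :=
  mkW P (Classical.choose (bruhat_exists P g)) (Classical.choose_spec (bruhat_exists P g)).1

theorem tau_eq {g n : G} (hn : n ∈ P.N) (hg : g ∈ dc P n) : tau P g = mkW P n hn := by
  unfold tau
  obtain ⟨h1, h2⟩ := Classical.choose_spec (bruhat_exists P g)
  rw [mkW_eq_iff]
  exact (bruhat_unique P h1 hn).1 (mem_dc_both h2 hg)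

theorem mem_dc_of_tau {g n : G} (hn : n ∈ P.N) (h : tau P g = mkW P n hn) : g ∈ dc P n := by
  unfold tau at h
  obtain ⟨h1, h2⟩ := Classical.choose_spec (bruhat_exists P g)
  rw [mkW_eq_iff] at h
  rw [← (bruhat_unique P h1 hn).2 h]
  exact h2

theorem tau_eq_iff {g n : G} (hn : n ∈ P.N) : tau P g = mkW P n hn ↔ g ∈ dc P n :=
  ⟨mem_dc_of_tau P hn, tau_eq P hn⟩

theorem tau_of_mem_N {n : G} (hn : n ∈ P.N) : tau P n = mkW P n hn :=
  tau_eq P hn (self_mem_dc P n)

theorem exists_rep (g : G) : ∃ n, ∃ hn : n ∈ P.N, tau P g = mkW P n hn ∧ g ∈ dc P n := by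
  obtain ⟨n, hn, hg⟩ := bruhat_exists P g
  exact ⟨n, hn, tau_eq P hn hg, hg⟩

theorem tau_B_mul {b : G} (hb : b ∈ P.B) (g : G) : tau P (b * g) = tau P g := by
  obtain ⟨n, hn, h1, h2⟩ := exists_rep P g
  rw [h1]
  exact tau_eq P hn (mul_mem_dc P hb h2)

theorem tau_mul_B {b : G} (hb : b ∈ P.B) (g : G) : tau P (g * b) = tau P g := by
  obtain ⟨n, hn, h1, h2⟩ := exists_rep P g
  rw [h1]
  exact tau_eq P hn (mem_dc_mul P hb h2)

theorem tau_eq_one_iff (g : G) : tau P g = 1 ↔ g ∈ P.B := by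
  have h1 : (1 : P.N ⧸ (P.B ⊓ P.N).subgroupOf P.N) = mkW P 1 P.N.one_mem := rfl
  rw [h1, tau_eq_iff, dc_one]
  rfl

theorem tau_inv (g : G) : tau P g⁻¹ = (tau P g)⁻¹ := by
  obtain ⟨n, hn, h1, h2⟩ := exists_rep P g
  rw [h1]
  exact tau_eq P (P.N.inv_mem hn) (inv_mem_dc P h2)

/-- (BN1) in terms of types, left multiplication by a generator -/
theorem tau_S_mul (s : P.S) (g : G) : tau P (s.1 * g) = wf P s * tau P g ∨ tau P (s.1 * g) = tau P g := by
  obtain ⟨n, hn, h1, h2⟩ := exists_rep P g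
  rcases S_mul_mem P s.2 hn h2 with h | h
  · left
    rw [tau_eq P (P.N.mul_mem (P.subset s.2) hn) h, h1]
    rfl
  · right
    rw [tau_eq P hn h, h1]

/-- left multiplication by a generator which lengthens the type -/
theorem tau_S_mul_of_lt (s : P.S) (g : G) (h : wl (wf P) (tau P g) < wl (wf P) (wf P s * tau P g)) :
    tau P (s.1 * g) = wf P s * tau P g := by
  obtain ⟨n, hn, h1, h2⟩ := exists_rep P g
  rw [h1] at h ⊢
  have e : wf P s * mkW P n hn = mkW P (s.1 * n) (P.N.mul_mem (P.subset s.2) hn) := rfl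
  rw [e, wl_mkW, wl_mkW] at h
  rw [e]
  apply tau_eq
  exact (len_lt_iff (le_refl _) (expr_of_mem_N hn) s.2).1 h g h2

/-- right multiplication by a generator which lengthens the type -/
theorem tau_mul_S_of_lt (s : P.S) (g : G) (h : wl (wf P) (tau P g) < wl (wf P) (tau P g * wf P s)) :
    tau P (g * s.1) = tau P g * wf P s := by
  have hE := exchData_wf P
  have hinv : (wf P s)⁻¹ = wf P s := inv_gen hE s
  have h' : wl (wf P) (tau P g⁻¹) < wl (wf P) (wf P s * tau P g⁻¹) := by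
    rw [tau_inv, ← wl_inv' hE (wf P s * (tau P g)⁻¹), mul_inv_rev, inv_inv, hinv, wl_inv' hE]
    exact h
  have h1 := tau_S_mul_of_lt P s g⁻¹ h'
  obtain ⟨b, hb, hsb⟩ := S_inv P s.2
  have h2 : tau P (g * s.1) = tau P (s.1 * g⁻¹)⁻¹ := by
    have e : (s.1 * g⁻¹)⁻¹ = g * s.1 * b := by rw [mul_inv_rev, inv_inv, hsb, mul_assoc]
    rw [e, tau_mul_B P hb]
  rw [h2, tau_inv, h1, tau_inv, mul_inv_rev, inv_inv, hinv]

end Cfsg.Agent.Helper19.Stein
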