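import Cfsg.Agent.Helper19.Stein.ChevStein
import Cfsg.Agent.Helper31.SteinX2c
import Cfsg.Agent.Helper42.UnipC
import Cfsg.Agent.Helper74.CharBasic
import Cfsg.Agent.Helper75.VirtualChar
import Cfsg.Agent.Helper25.GenChar
import Cfsg.Agent.Helper12.PermCharBasics

/-!
# The Steinberg character of a Chevalley group is irreducible
-/

set_option autoImplicit false
set_option maxRecDepth 100000

namespace Cfsg.Agent.Helper19.Stein

open Cfsg Cfsg.Lie Cfsg.Agent.Helper6 Cfsg.Agent.Helper18 Cfsg.Agent.Helper19.Cox
  Cfsg.Agent.Helper19.Poinc DoubleCoset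
open scoped ComplexConjugate

section Irr

variable {F : Type*} [Field F] [Fintype F] (D : ChevalleyDatum)
  (hD : D ∈ [chevG2, chevB2, chevD4, chevF4, chevE6, chevE7, chevE8])
  (P : Cfsg.BNPair ↥(D.group F))
  (hB : P.B = (D.borelSubgroup F).subgroupOf (D.group F))
  (hS : P.S = {n : ↥(D.group F) | ∃ i < D.rank,
    ((n : GL D.Idx F) : Matrix D.Idx D.Idx F) = D.nMat F (D.simple i) 1})
include hD hB hS

omit [Fintype F] in
/-- the Steinberg character as a linear combination of permutation characters -/
theorem steinberg_fun_eq [Fintype P.S] [DecidableEq P.S] :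
    D.steinbergCharacter F = ∑ J' ∈ (Finset.univ : Finset P.S).powerset,
      ((-1 : ℂ) ^ J'.card) • fixedPointCharacter (P.parabolic (Subtype.val '' (↑J' : Set P.S))) := by
  funext g
  rw [steinberg_eq_sum D hD P hS hB g, Finset.sum_apply]
  rfl

/-- the Steinberg character has norm one -/
theorem classInner_steinberg [Fintype ↥(D.group F)] :
    classInner (D.steinbergCharacter F) (D.steinbergCharacter F) = 1 := by
  classical
  have : Fintype P.S := Fintype.ofEquiv _ (equivS D hD P hS)
  rw [steinberg_fun_eq D hD P hB hS, Helper74.classInner_sum_left]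
  simp only [Helper74.classInner_sum_right, Helper74.classInner_smul_left,
    Helper74.classInner_smul_right, Cfsg.Agent.Helper42.Unip.classInner_fixedPoint]
  have hconj : ∀ k : ℕ, conj ((-1 : ℂ) ^ k) = (-1 : ℂ) ^ k := by
    intro k; simp
  simp only [hconj]
  have h := Cfsg.Agent.Helper31.SteinX2c.alternating_sum_orbits P
  have h1 : Nat.card {d : P.N ⧸ (P.B ⊓ P.N).subgroupOf P.N // MaxL (wf P) d ∧ MaxR (wf P) d} = 1 :=
    card_maxLR (exchData_wf P)
  rw [h1] at h
  rw [Nat.cast_one] at h
  refine Eq.trans ?_ h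
  refine Finset.sum_congr rfl fun J _ => Finset.sum_congr rfl fun K _ => ?_
  ring

/-- the Steinberg character is a generalized character -/
theorem steinberg_isGenChar : IsGeneralizedCharacter ↥(D.group F) (D.steinbergCharacter F) := by
  classical
  have : Fintype P.S := Fintype.ofEquiv _ (equivS D hD P hS)
  have : Fintype ↥(D.group F) := Fintype.ofFinite _
  rw [steinberg_fun_eq D hD P hB hS]
  refine Helper25.isGenChar_sum _ fun J _ => ?_
  have e : ((-1 : ℂ) ^ J.card) • fixedPointCharacter (P.parabolic (Subtype.val '' (↑J : Set P.S))) =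
      ((-1 : ℤ) ^ J.card) • fixedPointCharacter (P.parabolic (Subtype.val '' (↑J : Set P.S))) := by
    funext g
    simp
  rw [e]
  refine Helper25.isGenChar_zsmul _ (Helper25.isGenChar_of_isCharacter ?_)
  have : Fintype (↥(D.group F) ⧸ P.parabolic (Subtype.val '' (↑J : Set P.S))) := Fintype.ofFinite _
  exact (Cfsg.Agent.Helper12.PermCharBasics.permChar_isCharacter :
    IsCharacter _ (Cfsg.Agent.Helper12.PermCharBasics.permChar ↥(D.group F)
      (↥(D.group F) ⧸ P.parabolic (Subtype.val '' (↑J : Set P.S)))))

/-- the Steinberg character is irreducible, given its degree -/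
theorem steinberg_isIrr
    (hdeg : D.steinbergCharacter F 1 = (Fintype.card F : ℂ) ^ (D.nroots / 2)) :
    IsIrrCharacter ↥(D.group F) (D.steinbergCharacter F) := by
  have : Fintype ↥(D.group F) := Fintype.ofFinite _
  obtain ⟨θ, h | h⟩ := Helper75.vc_pm_irr (steinberg_isGenChar D hD P hB hS)
    (classInner_steinberg D hD P hB hS)
  · rw [h]; exact θ.2
  · exfalso
    obtain ⟨d, hd⟩ := Helper74.isCharacter_apply_one (Helper74.irr_isCharacter θ)
    rw [h, Pi.neg_apply, hd] at hdeg
    have h1 : ((Fintype.card F ^ (D.nroots / 2) + d : ℕ) : ℂ) = 0 := by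
      push_cast
      linear_combination -hdeg
    have h2 := Nat.cast_eq_zero.mp h1
    have h3 : 0 < Fintype.card F ^ (D.nroots / 2) := pow_pos Fintype.card_pos _
    omega

end Irr

end Cfsg.Agent.Helper19.Stein
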