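import Cfsg.Agent.Helper19.Stein.BNTau
import Cfsg.Agent.Helper19.Poinc.Bruhat
import Cfsg.Agent.Helper18.BNPairChev
import Cfsg.Agent.S1053
import Cfsg.Agent.S1037

/-!
# The sign criterion and the longest element in a Chevalley group

For the (B,N)-pair of a Chevalley group: if `m X_p m⁻¹ ≤ B` for a fundamental root `p` then right
multiplication by `n_p` lengthens the class of `m` in the Weyl group; the representative `n₀` of
S1053 (with `n₀ U n₀⁻¹ = V`) has every generator as a right descent, and `B ∩ n₀ B n₀⁻¹ = H`.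
-/

set_option autoImplicit false
set_option maxRecDepth 100000

namespace Cfsg.Agent.Helper19.Stein

open Cfsg Cfsg.Lie Cfsg.Agent.Helper6 Cfsg.Agent.Helper18 Cfsg.Agent.Helper19.Cox
  Cfsg.Agent.Helper19.Poinc DoubleCoset

section Sign

variable {F : Type*} [Field F] (D : ChevalleyDatum)
  (hD : D ∈ [chevG2, chevB2, chevD4, chevF4, chevE6, chevE7, chevE8])
  (h45 : H45 D F)
  (P : Cfsg.BNPair ↥(D.group F))
  (hB : P.B = (D.borelSubgroup F).subgroupOf (D.group F))
  (hN : P.N = (D.monomialSubgroup F).subgroupOf (D.group F))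
include hD h45 hB

/-- the sign criterion: if `m X_p m⁻¹ ≤ B` then `ℓ(w s_p) > ℓ(w)` -/
theorem sign_criterion (m : ↥(D.group F)) (hm : m ∈ P.N) (i : ℕ) (hi : i < D.rank) (s : P.S)
    (hs : ((s.1 : GL D.Idx F) : Matrix D.Idx D.Idx F) = D.nMat F (D.simple i) 1)
    (hpos : ∀ t : F, (m : GL D.Idx F) * xGL D F (D.simple i) t * (m : GL D.Idx F)⁻¹ ∈ D.borelSubgroup F) :
    wl (wf P) (mkW P m hm) < wl (wf P) (mkW P m hm * wf P s) := by
  have hE := exchData_wf P
  have hp := simple_lt D (simpleOK_of_mem D hD) i hi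
  have hsv : (s.1 : GL D.Idx F) = npGL D F i := nG_unique D hD i _ hs
  have hBG := (Cfsg.Agent.S1043.result (F := F) D hD).1
  -- the double coset statement for `m⁻¹`
  have key : ∀ g ∈ dc P m⁻¹, s.1 * g ∈ dc P (s.1 * m⁻¹) := by
    intro g hg
    rw [mem_dc] at hg ⊢
    obtain ⟨b₁, hb₁, b₂, hb₂, rfl⟩ := hg
    have hb₁' : (b₁ : GL D.Idx F) ∈ D.borelSubgroup F := by
      rw [hB] at hb₁; exact Subgroup.mem_subgroupOf.mp hb₁
    have hb₂' : (b₂ : GL D.Idx F) ∈ D.borelSubgroup F := by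
      rw [hB] at hb₂; exact Subgroup.mem_subgroupOf.mp hb₂
    obtain ⟨y, hy, x, hx, hyx⟩ := decomp_borel D hD h45 i hi _ hb₁'
    obtain ⟨t, rfl⟩ := (mem_rootSubgroup_iff D hD _ hp x).mp hx
    have hyB : y ∈ D.borelSubgroup F :=
      (sup_le ((Up_le_posUnipotent D i).trans le_sup_left) le_sup_right) hy
    have hy' : npGL D F i * y * (npGL D F i)⁻¹ ∈ D.borelSubgroup F := by
      have := (Subgroup.mem_normalizer_iff.mp (npGL_mem_normalizer D hD h45 i hi) y).mp hy
      exact (sup_le ((Up_le_posUnipotent D i).trans le_sup_left) le_sup_right) this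
    have hx' := hpos t
    refine ⟨⟨npGL D F i * y * (npGL D F i)⁻¹, hBG hy'⟩, ?_,
      ⟨(m : GL D.Idx F) * xGL D F (D.simple i) t * (m : GL D.Idx F)⁻¹ * b₂,
        hBG (Subgroup.mul_mem _ hx' hb₂')⟩, ?_, ?_⟩
    · rw [hB]; exact Subgroup.mem_subgroupOf.mpr hy'
    · rw [hB]; exact Subgroup.mem_subgroupOf.mpr (Subgroup.mul_mem _ hx' hb₂')
    · apply Subtype.ext
      simp only [Subgroup.coe_mul, Subgroup.coe_inv]
      rw [hyx, hsv]
      group
  have hlen := (len_lt_iff (P := P) (le_refl _) (expr_of_mem_N (P.N.inv_mem hm)) s.2).2 key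
  have e1 : wl (wf P) (mkW P m hm) = len P P.S m⁻¹ := by
    rw [← wl_inv' hE]
    exact wl_mkW P (P.N.inv_mem hm)
  have e2 : wl (wf P) (mkW P m hm * wf P s) = len P P.S (s.1 * m⁻¹) := by
    rw [← wl_inv' hE, mul_inv_rev, inv_gen hE]
    exact wl_mkW P (P.N.mul_mem (P.subset s.2) (P.N.inv_mem hm))
  rw [e1, e2]
  exact hlen

end Sign

section Longest

variable {F : Type*} [Field F] (D : ChevalleyDatum)
  (hD : D ∈ [chevG2, chevB2, chevD4, chevF4, chevE6, chevE7, chevE8]) (C : Cert D)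
  (h31 : NConjHyp D F) [hn : (HN D F).Normal]
include hD

/-- a representative of the longest element sends every positive root to a negative root -/
theorem longest_neg (w : C.M.Group) (n : ↥(D.monomialSubgroup F))
    (hnw : (QuotientGroup.mk n : ↥(D.monomialSubgroup F) ⧸ HN D F) = psiC D hD C h31 w)
    (hUV : (D.posUnipotent F).map (MulAut.conj (n : GL D.Idx F)).toMonoidHom = D.negUnipotent F)
    (r : ℕ) (hr : hlfOf D ≤ r ∧ r < D.nroots) :
    phi C.M C.Mx C.hI C.hB C.hMx w r < hlfOf D := by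
  have htri := triOK_of_mem D hD
  have hpos := posOK_of_mem D hD
  by_contra hcon
  have hcon := not_lt.1 hcon
  obtain ⟨hlt, t', e⟩ := conj_rep D hD C h31 w n hnw r hr.2 1
  have hU : xGL D F r 1 ∈ D.posUnipotent F :=
    rootSubgroup_le_posUnipotent D hD _ ((isPosRoot_iff D _ hpos r).mpr hr) (xGL_mem_rootSubgroup D hD _ _)
  have hV : (n : GL D.Idx F) * xGL D F r 1 * (n : GL D.Idx F)⁻¹ ∈ D.negUnipotent F := by
    rw [← hUV]
    exact ⟨_, hU, rfl⟩
  have hU' : (n : GL D.Idx F) * xGL D F r 1 * (n : GL D.Idx F)⁻¹ ∈ D.posUnipotent F := by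
    rw [e]
    exact rootSubgroup_le_posUnipotent D hD _ ((isPosRoot_iff D _ hpos _).mpr ⟨hcon, hlt⟩)
      (xGL_mem_rootSubgroup D hD _ _)
  have h1 : (n : GL D.Idx F) * xGL D F r 1 * (n : GL D.Idx F)⁻¹ ∈ D.posUnipotent F ⊓ D.negUnipotent F :=
    ⟨hU', hV⟩
  have hbot : D.posUnipotent F ⊓ D.negUnipotent F = ⊥ := by
    rw [eq_bot_iff, ← (Cfsg.Agent.S1037.result (F := F) D hD).1]
    exact inf_le_inf_right _ le_sup_left
  rw [hbot, Subgroup.mem_bot] at h1
  have h2 : xGL D F r 1 = 1 := by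
    have : xGL D F r 1 = (n : GL D.Idx F)⁻¹ * ((n : GL D.Idx F) * xGL D F r 1 * (n : GL D.Idx F)⁻¹) *
        (n : GL D.Idx F) := by group
    rw [this, h1]; group
  have h3 := congrArg (fun g : GL D.Idx F => (g : Matrix D.Idx D.Idx F)) h2
  simp only [xGL_val D _ htri, Units.val_one] at h3
  exact one_ne_zero ((Cfsg.Agent.S1024.result D hD r hr.2 (1 : F)).mp h3)

variable (h45 : H45 D F) (P : Cfsg.BNPair ↥(D.group F))
  (hB : P.B = (D.borelSubgroup F).subgroupOf (D.group F))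
  (hN : P.N = (D.monomialSubgroup F).subgroupOf (D.group F))
  (hS : P.S = {n : ↥(D.group F) | ∃ i < D.rank,
    ((n : GL D.Idx F) : Matrix D.Idx D.Idx F) = D.nMat F (D.simple i) 1})
include h45 hB hN hS C h31

/-- the longest element: every generator is a right descent, and `B ∩ n₀ B n₀⁻¹ = H` -/
theorem exists_longest :
    ∃ n₀ : ↥(D.group F), ∃ hn₀ : n₀ ∈ P.N, MaxR (wf P) (mkW P n₀ hn₀) ∧
      ∀ u ∈ P.B, (n₀⁻¹ * u * n₀ ∈ P.B ↔ u ∈ (D.diagonalSubgroup F).subgroupOf (D.group F)) := by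
  have hE := exchData_wf P
  have htri := triOK_of_mem D hD
  have hpos := posOK_of_mem D hD
  obtain ⟨hBG, hNG, -⟩ := Cfsg.Agent.S1043.result (F := F) D hD
  obtain ⟨n, hnN, hUV⟩ := Cfsg.Agent.S1053.result (F := F) D hD
  obtain ⟨w, hw⟩ := psi_surjective D hD C.M C.Mx C.hMx C.tabs C.ht C.hbr h31 C.words C.hreach
    (QuotientGroup.mk (⟨n, hnN⟩ : ↥(D.monomialSubgroup F)))
  have hnw : (QuotientGroup.mk (⟨n, hnN⟩ : ↥(D.monomialSubgroup F)) : ↥(D.monomialSubgroup F) ⧸ HN D F) =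
      psiC D hD C h31 w := hw.symm
  have hneg := longest_neg D hD C h31 w ⟨n, hnN⟩ hnw hUV
  have hn₀ : (⟨n, hNG hnN⟩ : ↥(D.group F)) ∈ P.N := by
    rw [hN]; exact Subgroup.mem_subgroupOf.mpr hnN
  refine ⟨⟨n, hNG hnN⟩, hn₀, ?_, ?_⟩
  · -- MaxR
    intro s
    have hs2 : s.1 ∈ {n : ↥(D.group F) | ∃ i < D.rank,
        ((n : GL D.Idx F) : Matrix D.Idx D.Idx F) = D.nMat F (D.simple i) 1} := hS ▸ s.2
    obtain ⟨i, hi, hs⟩ := hs2
    have hp := simple_lt D (simpleOK_of_mem D hD) i hi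
    have hsv : (s.1 : GL D.Idx F) = npGL D F i := nG_unique D hD i _ hs
    have hm' : (⟨n, hNG hnN⟩ : ↥(D.group F)) * s.1 ∈ P.N := P.N.mul_mem hn₀ (P.subset s.2)
    have hsc := sign_criterion D hD h45 P hB _ hm' i hi s hs ?_
    · have e1 : mkW P (⟨n, hNG hnN⟩ * s.1) hm' = mkW P ⟨n, hNG hnN⟩ hn₀ * wf P s := rfl
      rw [e1, mul_assoc, hE.inv s, mul_one] at hsc
      exact hsc
    · intro t
      obtain ⟨η, -, hconj⟩ := npGL_conj_xGL D hD h31 i hi
      have hα := simple_pos D hD i hi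
      have hlt1 := (triOK_spec D _ htri _ hp).1
      obtain ⟨hlt, t', e⟩ := conj_rep D hD C h31 w ⟨n, hnN⟩ hnw (D.neg (D.simple i)) hlt1 ((η : F) * t)
      have e2 : ((⟨n, hNG hnN⟩ * s.1 : ↥(D.group F)) : GL D.Idx F) * xGL D F (D.simple i) t *
          ((⟨n, hNG hnN⟩ * s.1 : ↥(D.group F)) : GL D.Idx F)⁻¹ =
          n * (npGL D F i * xGL D F (D.simple i) t * (npGL D F i)⁻¹) * n⁻¹ := by
        simp only [Subgroup.coe_mul]
        rw [hsv]; group
      rw [e2, hconj]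
      have e3 : n * xGL D F (D.neg (D.simple i)) ((η : F) * t) * n⁻¹ =
          xGL D F (phi C.M C.Mx C.hI C.hB C.hMx w (D.neg (D.simple i))) t' := e
      rw [e3, phi_neg D hD C w _ hp]
      have h1 := hneg (D.simple i) ⟨hα, hp⟩
      have h2 := phi_lt D hD C w _ hp
      have h3 := (triOK_spec D _ htri _ h2).2.2.1 h1
      have h4 := (triOK_spec D _ htri _ h2).1
      exact (rootSubgroup_le_posUnipotent D hD _ ((isPosRoot_iff D _ hpos _).mpr ⟨h3, h4⟩)).trans
        le_sup_left (xGL_mem_rootSubgroup D hD _ _)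
  · -- `B ∩ n₀ B n₀⁻¹ = H`
    intro u hu
    rw [hB] at hu ⊢
    rw [Subgroup.mem_subgroupOf] at hu ⊢
    rw [Subgroup.mem_subgroupOf]
    simp only [Subgroup.coe_mul, Subgroup.coe_inv]
    have hnorm := monomialSubgroup_le_normalizer (F := F) D hD hnN
    constructor
    · intro h
      have hHU := (Cfsg.Agent.S1036.result (F := F) D hD).1
      obtain ⟨u', hu', h', hh', e⟩ := exists_mul_of_mem_sup hHU h
      have e' : (u : GL D.Idx F) = (n * u' * n⁻¹) * (n * h' * n⁻¹) := by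
        have : (u : GL D.Idx F) = n * (n⁻¹ * (u : GL D.Idx F) * n) * n⁻¹ := by group
        rw [this, e]; group
      have hV : n * u' * n⁻¹ ∈ D.negUnipotent F := by
        rw [← hUV]; exact ⟨u', hu', rfl⟩
      have hH : n * h' * n⁻¹ ∈ D.diagonalSubgroup F :=
        (Subgroup.mem_normalizer_iff.mp hnorm h').mp hh'
      have h5 : (u : GL D.Idx F) ∈ D.borelSubgroup F ⊓ (D.negUnipotent F ⊔ D.diagonalSubgroup F) := by
        refine ⟨hu, ?_⟩
        rw [e']
        exact Subgroup.mul_mem _ (Subgroup.mem_sup_left hV) (Subgroup.mem_sup_right hH)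
      rw [(Cfsg.Agent.S1037.result (F := F) D hD).2] at h5
      exact h5
    · intro h
      have h6 := (Subgroup.mem_normalizer_iff.mp (Subgroup.inv_mem _ hnorm) (u : GL D.Idx F)).mp h
      rw [inv_inv] at h6
      exact Subgroup.mem_sup_right h6

end Longest

end Cfsg.Agent.Helper19.Stein
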