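import Cfsg.Agent.Helper19.Stein.ChevSign
import Cfsg.Agent.Helper19.Stein.BNMin
import Cfsg.Agent.Helper19.Stein.TauB
import Cfsg.Agent.Helper76.SteinX2b
import Cfsg.Agent.Helper55.SteinX3a
import Cfsg.Agent.Helper55.SteinX3b
import Cfsg.Prelude.Def_ParabolicCharacters
import Cfsg.Agent.S1027

/-!
# The Steinberg character of a Chevalley group: restriction to `B` and degree
-/

set_option autoImplicit false
set_option maxRecDepth 100000

namespace Cfsg.Agent.Helper19.Stein

open Cfsg Cfsg.Lie Cfsg.Agent.Helper6 Cfsg.Agent.Helper18 Cfsg.Agent.Helper19.Cox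
  Cfsg.Agent.Helper19.Poinc DoubleCoset

section general

/-- the subgroup of `K` cut out by the closure of a subset of `K` is the closure of the preimage -/
theorem closure_subgroupOf {Γ : Type*} [Group Γ] (K : Subgroup Γ) (S : Set Γ) (hS : S ⊆ K) :
    (Subgroup.closure S).subgroupOf K = Subgroup.closure (Subtype.val ⁻¹' S : Set K) := by
  apply Subgroup.map_injective K.subtype_injective
  rw [Subgroup.subgroupOf_map_subtype, MonoidHom.map_closure]
  have h1 : Subgroup.closure S ≤ K := (Subgroup.closure_le K).mpr hS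
  rw [inf_eq_left.mpr h1]
  congr 1
  ext x
  constructor
  · intro hx
    exact ⟨⟨x, hS hx⟩, hx, rfl⟩
  · rintro ⟨y, hy, rfl⟩
    exact hy

/-- the degree of a permutation character -/
theorem fixedPointCharacter_one {Γ : Type*} [Group Γ] (K : Subgroup Γ) :
    fixedPointCharacter K 1 = (K.index : ℂ) := by
  unfold fixedPointCharacter
  have h1 : MulAction.fixedBy (Γ ⧸ K) (1 : Γ) = Set.univ := by
    ext x
    simp
  rw [h1, Nat.card_congr (Equiv.Set.univ _), ← Subgroup.index_eq_card]

end general

section Chev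

variable {F : Type*} [Field F] (D : ChevalleyDatum)
  (hD : D ∈ [chevG2, chevB2, chevD4, chevF4, chevE6, chevE7, chevE8])
include hD

/-- the fundamental roots are distinct -/
theorem simple_injective {i j : ℕ} (hi : i < D.rank) (hj : j < D.rank) (h : D.simple i = D.simple j) :
    i = j := by
  have hs := simpleOK_of_mem D hD
  unfold simpleOK at hs
  rw [List.all_eq_true] at hs
  have h1 := hs i (List.mem_range.mpr hi)
  have h2 := hs j (List.mem_range.mpr hj)
  rw [Bool.and_eq_true, List.all_eq_true] at h1 h2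
  have h3 := h1.2 i (List.mem_range.mpr hi)
  have h4 := h2.2 i (List.mem_range.mpr hi)
  rw [decide_eq_true_eq] at h3 h4
  rw [h, h4] at h3
  by_contra hne
  rw [if_pos rfl, if_neg hne] at h3
  exact zero_ne_one h3

variable (P : Cfsg.BNPair ↥(D.group F))
  (hS : P.S = {n : ↥(D.group F) | ∃ i < D.rank,
    ((n : GL D.Idx F) : Matrix D.Idx D.Idx F) = D.nMat F (D.simple i) 1})
include hS

/-- the `i`-th distinguished generator -/
noncomputable def genS (i : Fin D.rank) : P.S :=
  ⟨⟨npGL D F i.val, (Cfsg.Agent.S1043.result (F := F) D hD).2.1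
      (nGL_mem_monomialSubgroup D hD _ (simple_lt D (simpleOK_of_mem D hD) i.val i.2))⟩,
    hS ▸ ⟨i.val, i.2, nWordGL_val D hD _ _⟩⟩

theorem genS_val (i : Fin D.rank) : ((genS D hD P hS i).1 : GL D.Idx F) = npGL D F i.val := rfl

theorem genS_bijective : Function.Bijective (genS D hD P hS) := by
  constructor
  · intro i j h
    have h1 : npGL D F i.val = npGL D F j.val := by
      rw [← genS_val D hD P hS i, ← genS_val D hD P hS j, h]
    have h2 := simple_eq_of_mem (F := F) D hD i.val j.val i.2 j.2 (by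
      change (npGL D F i.val)⁻¹ * npGL D F j.val ∈ _
      rw [h1, inv_mul_cancel]; exact Subgroup.one_mem _)
    exact Fin.ext (simple_injective D hD i.2 j.2 h2)
  · intro s
    have hs2 : s.1 ∈ {n : ↥(D.group F) | ∃ i < D.rank,
        ((n : GL D.Idx F) : Matrix D.Idx D.Idx F) = D.nMat F (D.simple i) 1} := hS ▸ s.2
    obtain ⟨i, hi, hs⟩ := hs2
    refine ⟨⟨i, hi⟩, ?_⟩
    apply Subtype.ext
    apply Subtype.ext
    rw [genS_val]
    exact (nG_unique D hD i _ hs).symm

/-- the distinguished generators are indexed by `Fin rank` -/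
noncomputable def equivS : Fin D.rank ≃ P.S := Equiv.ofBijective _ (genS_bijective D hD P hS)

theorem equivS_val (i : Fin D.rank) : (((equivS D hD P hS i).1 : ↥(D.group F)) : GL D.Idx F) = npGL D F i.val := rfl

variable (hB : P.B = (D.borelSubgroup F).subgroupOf (D.group F))
include hB

/-- the standard parabolic subgroups of the Chevalley group are those of the (B,N)-pair -/
theorem parabolicIn_eq (J : Finset ℕ) :
    D.parabolicIn F J = P.parabolic (Subtype.val '' {a : P.S | (((equivS D hD P hS).symm a : Fin D.rank) : ℕ) ∈ J}) := by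
  obtain ⟨hBG, hNG, -⟩ := Cfsg.Agent.S1043.result (F := F) D hD
  have hs := simpleOK_of_mem D hD
  unfold ChevalleyDatum.parabolicIn ChevalleyDatum.parabolicSubgroup Cfsg.BNPair.parabolic
  have hSG : {g : GL D.Idx F | ∃ j ∈ (↑J : Set ℕ), j < D.rank ∧
      (g : Matrix D.Idx D.Idx F) = D.nMat F (D.simple j) 1} ⊆ (D.group F : Set (GL D.Idx F)) := by
    rintro g ⟨j, -, hj, hg⟩
    rw [nG_unique D hD j g hg]
    exact hNG (nGL_mem_monomialSubgroup D hD _ (simple_lt D hs j hj))
  rw [Subgroup.subgroupOf_sup hBG ((Subgroup.closure_le _).mpr hSG), closure_subgroupOf _ _ hSG, hB]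
  congr 2
  ext g
  constructor
  · rintro ⟨j, hjJ, hj, hg⟩
    refine ⟨equivS D hD P hS ⟨j, hj⟩, ?_, ?_⟩
    · show ((((equivS D hD P hS).symm (equivS D hD P hS ⟨j, hj⟩) : Fin D.rank)) : ℕ) ∈ J
      rw [Equiv.symm_apply_apply]
      exact hjJ
    · apply Subtype.ext
      rw [equivS_val]
      exact (nG_unique D hD j _ hg).symm
  · rintro ⟨a, ha, rfl⟩
    refine ⟨(((equivS D hD P hS).symm a : Fin D.rank) : ℕ), ha, ((equivS D hD P hS).symm a).2, ?_⟩
    have h1 := equivS_val D hD P hS ((equivS D hD P hS).symm a)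
    rw [Equiv.apply_symm_apply] at h1
    show (((a.1 : ↥(D.group F)) : GL D.Idx F) : Matrix D.Idx D.Idx F) = _
    rw [h1]
    exact nWordGL_val D hD _ _

/-- the Steinberg character as an alternating sum over the subsets of `S` -/
theorem steinberg_eq_sum [Fintype P.S] [DecidableEq P.S] (g : ↥(D.group F)) :
    D.steinbergCharacter F g = ∑ J' ∈ (Finset.univ : Finset P.S).powerset,
      (-1 : ℂ) ^ J'.card * fixedPointCharacter (P.parabolic (Subtype.val '' (↑J' : Set P.S))) g := by
  rw [← Cfsg.Agent.Helper55.SteinX3a.sum_powerset_reindex D.rank (equivS D hD P hS)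
    (fun J' => fixedPointCharacter (P.parabolic (Subtype.val '' (↑J' : Set P.S))) g)]
  unfold ChevalleyDatum.steinbergCharacter
  apply Finset.sum_congr rfl
  intro J _
  rw [parabolicIn_eq D hD P hS hB J]
  congr 4
  ext a
  simp

end Chev

section maxR

variable {G : Type*} [Group G] (P : Cfsg.BNPair G)

/-- the types with every generator as right descent are the class of the longest element -/
theorem maxR_iff (n₀ : G) (hn₀ : n₀ ∈ P.N) (hmax : MaxR (wf P) (mkW P n₀ hn₀))
    (x : G ⧸ P.B) :
    MaxR (wf P) (tauB P x) ↔ ∃ u ∈ P.B, x = QuotientGroup.mk (u * n₀) := by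
  have hE := exchData_wf P
  induction x using QuotientGroup.induction_on with
  | _ g =>
    rw [tauB_mk]
    constructor
    · intro h
      have h1 := maxR_unique hE h hmax
      have h2 := mem_dc_of_tau P hn₀ h1
      rw [mem_dc] at h2
      obtain ⟨u, hu, b', hb', rfl⟩ := h2
      refine ⟨u, hu, ?_⟩
      rw [QuotientGroup.eq]
      have : (u * n₀ * b')⁻¹ * (u * n₀) = b'⁻¹ := by group
      rw [this]
      exact P.B.inv_mem hb'
    · rintro ⟨u, hu, h⟩
      have h1 : tau P g = tauB P (QuotientGroup.mk g) := rfl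
      rw [h1, h, tauB_mk, tau_B_mul P hu, tau_of_mem_N P hn₀]
      exact hmax

end maxR

section Restrict

variable {F : Type*} [Field F] [Fintype F] (D : ChevalleyDatum)
  (hD : D ∈ [chevG2, chevB2, chevD4, chevF4, chevE6, chevE7, chevE8]) (C : Cert D)
  (h31 : NConjHyp D F) [hn : (HN D F).Normal] (h45 : H45 D F) (P : Cfsg.BNPair ↥(D.group F))
  (hB : P.B = (D.borelSubgroup F).subgroupOf (D.group F))
  (hN : P.N = (D.monomialSubgroup F).subgroupOf (D.group F))
  (hS : P.S = {n : ↥(D.group F) | ∃ i < D.rank,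
    ((n : GL D.Idx F) : Matrix D.Idx D.Idx F) = D.nMat F (D.simple i) 1})
include hD C h31 h45 hB hN hS

/-- the restriction of the Steinberg character to `B` is the permutation character on `B/H` -/
theorem steinberg_restrict (B' : Subgroup ↥(D.group F)) (hB' : P.B = B') (b : ↥B') :
    D.steinbergCharacter F (b : ↥(D.group F)) =
      fixedPointCharacter (((D.diagonalSubgroup F).subgroupOf (D.group F)).subgroupOf B') b := by
  subst hB'
  classical
  have : Fintype P.S := Fintype.ofEquiv _ (equivS D hD P hS)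
  have : Finite ↥(D.group F) := inferInstance
  obtain ⟨n₀, hn₀, hmax, hH⟩ := exists_longest D hD C h31 h45 P hB hN hS
  rw [steinberg_eq_sum D hD P hS hB]
  simp only [fixedPointCharacter]
  rw [Cfsg.Agent.Helper76.SteinX2b.alternating_sum_fixedBy P b.2,
    ← Cfsg.Agent.Helper55.SteinX3b.card_fixedBy_orbit P.B _ n₀ hH b]
  congr 1
  apply Nat.card_congr
  apply Equiv.subtypeEquivRight
  intro x
  rw [maxR_iff P n₀ hn₀ hmax x]

end Restrict

section Degree

variable {F : Type*} [Field F] [Fintype F] (D : ChevalleyDatum)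
  (hD : D ∈ [chevG2, chevB2, chevD4, chevF4, chevE6, chevE7, chevE8])
include hD

/-- the value at `1` of the permutation character of `B` on `B/H` is the order of `U` -/
theorem fixedPoint_one_borel :
    fixedPointCharacter (((D.diagonalSubgroup F).subgroupOf (D.group F)).subgroupOf
      ((D.borelSubgroup F).subgroupOf (D.group F))) 1 = (Fintype.card F : ℂ) ^ (D.nroots / 2) := by
  obtain ⟨hBG, -, -⟩ := Cfsg.Agent.S1043.result (F := F) D hD
  have hHB : D.diagonalSubgroup F ≤ D.borelSubgroup F := le_sup_right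
  rw [fixedPointCharacter_one]
  have hle : (D.diagonalSubgroup F).subgroupOf (D.group F) ≤ (D.borelSubgroup F).subgroupOf (D.group F) := by
    intro x hx
    rw [Subgroup.mem_subgroupOf] at hx ⊢
    exact hHB hx
  have c1 : Nat.card ↥(((D.diagonalSubgroup F).subgroupOf (D.group F)).subgroupOf
      ((D.borelSubgroup F).subgroupOf (D.group F))) = Nat.card (D.diagonalSubgroup F) :=
    (Nat.card_congr (Subgroup.subgroupOfEquivOfLe hle).toEquiv).trans
      (Nat.card_congr (Subgroup.subgroupOfEquivOfLe (hHB.trans hBG)).toEquiv)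
  have c2 : Nat.card ↥((D.borelSubgroup F).subgroupOf (D.group F)) = Nat.card (D.borelSubgroup F) :=
    Nat.card_congr (Subgroup.subgroupOfEquivOfLe hBG).toEquiv
  have h2 := Subgroup.index_mul_card (((D.diagonalSubgroup F).subgroupOf (D.group F)).subgroupOf
      ((D.borelSubgroup F).subgroupOf (D.group F)))
  rw [c1, c2, card_borel D hD, Cfsg.Agent.S1027.result D hD] at h2
  have hpos : 0 < Nat.card (D.diagonalSubgroup F) := Nat.card_pos
  have h3 := Nat.eq_of_mul_eq_mul_right hpos h2
  rw [h3]
  push_cast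
  rfl

end Degree

end Cfsg.Agent.Helper19.Stein
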